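import Cfsg.Agent.H101.PQ.Own
import Cfsg.Agent.H894.PQ.Tools
import Cfsg.Agent.H990.PQ.Core

/-!
# S4612: tools for the rows of the Janko groups (helper513)

* `adj` : the Sylow `p`-subgroup has order `p`, an element of order `q` commutes with an element of order `p`;
* `kill_own` : `C(x)` is an extension of a central `r`-group by a group of Lie type in characteristic `r`;
* `kl` : a degree test (`decide +kernel`).
-/

set_option autoImplicit false

open Cfsg Subgroup

namespace Cfsg.Agent.H513.PQ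

open Cfsg.Agent.H317.PQ Cfsg.Agent.H709.PB Cfsg.Agent.H894.PQ Cfsg.Agent.H358.A3 Cfsg.Agent.Blocks.Basic

universe u v

/-- **adjacent primes**, one of them exact -/
theorem adj {G : Type u} [Group G] [Finite G] {p q : ℕ} (hp : p.Prime) (hq : q.Prime) (hpq : p ≠ q) {x : G}
    (hx : orderOf x = p) (hi : ¬ p ^ 2 ∣ Nat.card G) (hd : q ∣ Nat.card (centralizer ({x} : Set G))) :
    ¬ Same p q G := by
  intro hS
  have h1 : IsPGroup p (zpowers x) := IsPGroup.of_card (n := 1) (by rw [Nat.card_zpowers, hx, pow_one])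
  have h2 : ¬ p ∣ (zpowers x).index := by
    intro h
    apply hi
    rw [← (zpowers x).card_mul_index, Nat.card_zpowers, hx, pow_two]
    exact mul_dvd_mul_left p h
  refine Cfsg.Agent.H990.PQ.Same.core_sylow hp hq hpq hS (zpowers x) h1 h2 ?_
  have e : centralizer ((zpowers x : Subgroup G) : Set G) = centralizer ({x} : Set G) := by
    rw [Subgroup.zpowers_eq_closure, Subgroup.centralizer_closure]
  rw [e]
  exact hd

/-- **a centralizer with a quotient of Lie type in characteristic `r`** -/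
theorem kill_own {G : Type u} [Group G] [Finite G] {K : Type v} [Group K] [Finite K] {r q : ℕ} (hr : r.Prime)
    (hq : q.Prime) (hqr : q ≠ r) (hK : IsLieTypeChar r K) (hZ : ∀ k : K, (∀ g : K, g * k = k * g) → k = 1)
    (hqK : q ∣ Nat.card K) {x : G} (hx : orderOf x = r) (hc : Nat.card (centralizer ({x} : Set G)) = r * Nat.card K)
    (f : centralizer ({x} : Set G) →* K) (hf : Function.Surjective f) : ¬ PQ r q G := by
  intro hS
  have h1 := PQ.centralizer hr hq hqr.symm hS ⟨1, by rw [hx, pow_one]⟩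
  have hxm : x ∈ centralizer ({x} : Set G) := mem_centralizer_singleton_iff.2 rfl
  have hxk : (⟨x, hxm⟩ : centralizer ({x} : Set G)) ∈ f.ker := by
    apply hZ
    intro g
    obtain ⟨y, rfl⟩ := hf g
    rw [← map_mul, ← map_mul]
    congr 1
    exact Subtype.ext (mem_centralizer_singleton_iff.1 y.2)
  have hker : Nat.card f.ker = r := by
    have h2 : Nat.card f.ker * Nat.card K = r * Nat.card K := by
      rw [← hc, ← f.ker.card_mul_index, Subgroup.index_ker, MonoidHom.range_eq_top.2 hf, Subgroup.card_top]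
    exact Nat.eq_of_mul_eq_mul_right Nat.card_pos h2
  have hle : zpowers (⟨x, hxm⟩ : centralizer ({x} : Set G)) ≤ f.ker := by
    rw [Subgroup.zpowers_le]
    exact hxk
  have heq : zpowers (⟨x, hxm⟩ : centralizer ({x} : Set G)) = f.ker := by
    apply Subgroup.eq_of_le_of_card_ge hle
    rw [hker, Nat.card_zpowers, Subgroup.orderOf_mk, hx]
  refine H101.PQ.not_PQ_own hr hq hqr hK hqK (PQ.map_center hr hq hqr.symm h1 f hf ?_ ?_)
  · rw [← heq, Subgroup.zpowers_le, Subgroup.mem_center_iff]
    intro g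
    exact Subtype.ext (mem_centralizer_singleton_iff.1 g.2)
  · exact IsPGroup.of_card (n := 1) (by rw [hker, pow_one])

/-- the test -/
def tst (n d p a q b : ℕ) : Bool :=
  decide (b ≠ 0) && (decide (d % p ^ a ≠ 0) && (decide (d % q ^ b = 0) && (decide (n % q ^ b = 0) &&
    decide (n % q ^ (b + 1) ≠ 0))))

theorem kl {G : Type u} [Group G] [Finite G] {n : ℕ} (hn : Nat.card G = n) {d p q a b : ℕ}
    (hd : ∃ χ : IrrCharacter G, charDegree (χ : G → ℂ) = d) (hp : p.Prime) (hq : q.Prime)
    (h : NB p a G) (ht : tst n d p a q b = true) : ¬ Same p q G := by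
  obtain ⟨χ, hχ⟩ := hd
  simp only [tst, Bool.and_eq_true, decide_eq_true_eq] at ht
  obtain ⟨h1, h2, h3, h4, h5⟩ := ht
  exact kill hp hq h hχ (fun h6 => h2 (Nat.mod_eq_zero_of_dvd h6)) h1 (Nat.dvd_of_mod_eq_zero h3)
    (by rw [hn]; exact Nat.dvd_of_mod_eq_zero h4) (by rw [hn]; exact fun h6 => h5 (Nat.mod_eq_zero_of_dvd h6))

/-- a member of the principal `p`-block of `q`-defect zero -/
theorem kill_mem {G : Type u} [Group G] [Finite G] {p q b d : ℕ} (_hp : p.Prime) (hq : q.Prime) {χ : IrrCharacter G}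
    (hm : χ ∈ B0 p G) (hd : charDegree (χ : G → ℂ) = d) (hd0 : d ≠ 0) (hb : b ≠ 0) (hqd : q ^ b ∣ d)
    (hG : q ^ b ∣ Nat.card G) (hG' : ¬ q ^ (b + 1) ∣ Nat.card G) : ¬ Same p q G := by
  intro hS
  have h3 : χ ∈ B0 q G := by
    have h4 : B0 p G = B0 q G := hS
    rwa [h4] at hm
  have hG0 : Nat.card G ≠ 0 := Nat.card_pos.ne'
  have h4 := Cfsg.Agent.H766.PQ.not_defect_zero hq ((dvd_pow_self q hb).trans hG) h3
  have h5 : (Nat.card G).factorization q < b + 1 := by
    by_contra h6
    exact hG' ((hq.pow_dvd_iff_le_factorization hG0).2 (by omega))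
  rw [hd] at h4
  have h6 := (hq.pow_dvd_iff_le_factorization hd0).1 hqd
  omega

/-- the centralizer of a Sylow subgroup is a `q`-group -/
theorem nb_of_cent {G : Type u} [Group G] [Finite G] {q a : ℕ} [hq : Fact q.Prime] (ha : q ^ a ∣ Nat.card G)
    (ha' : ¬ q ^ (a + 1) ∣ Nat.card G)
    (h : ∀ y : G, (orderOf y).Prime → orderOf y ≠ q → (q ^ a ∣ Nat.card (centralizer ({y} : Set G))) →
      (∀ b : G, orderOf b = q → orderOf y ∣ Nat.card (centralizer ({b} : Set G))) → False) : NB q 1 G := by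
  obtain ⟨Q⟩ : Nonempty (Sylow q G) := inferInstance
  have hQ : Nat.card Q = q ^ a := by
    rw [Q.card_eq_multiplicity]
    congr 1
    have h1 := (hq.out.pow_dvd_iff_le_factorization Nat.card_pos.ne').1 ha
    have h2 : ¬ a + 1 ≤ (Nat.card G).factorization q := fun h => ha' ((hq.out.pow_dvd_iff_le_factorization Nat.card_pos.ne').2 h)
    omega
  refine NB.of_sylow Q ?_
  rw [IsPGroup.iff_card]
  refine ⟨_, Nat.eq_prime_pow_of_unique_prime_dvd Nat.card_pos.ne' ?_⟩
  intro r hr hrd
  by_contra hne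
  have : Fact r.Prime := ⟨hr⟩
  obtain ⟨⟨y, hy⟩, hy2⟩ := exists_prime_orderOf_dvd_card' r hrd
  rw [orderOf_mk] at hy2
  refine h y (by rw [hy2]; exact hr) (by rw [hy2]; exact hne) ?_ ?_
  · have hle : (Q : Subgroup G) ≤ centralizer ({y} : Set G) := by
      intro u hu
      rw [mem_centralizer_singleton_iff]
      exact (mem_centralizer_iff.1 hy u hu)
    have := card_dvd_of_le hle
    rwa [hQ] at this
  · intro b hb
    have hbp : IsPGroup q (zpowers b) := IsPGroup.of_card (n := 1) (by rw [Nat.card_zpowers, hb, pow_one])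
    obtain ⟨R, hR⟩ := hbp.exists_le_sylow
    obtain ⟨g, hg⟩ := MulAction.exists_smul_eq G R Q
    have h1 : g * b * g⁻¹ ∈ (Q : Subgroup G) := by
      have h2 : g * b * g⁻¹ ∈ ((g • R : Sylow q G) : Subgroup G) := by
        rw [Sylow.coe_subgroup_smul]
        exact ⟨b, hR (mem_zpowers b), rfl⟩
      rwa [hg] at h2
    have h2 := mem_centralizer_iff.1 hy _ h1
    have h3 : g⁻¹ * y * g ∈ centralizer ({b} : Set G) := by
      rw [mem_centralizer_singleton_iff]
      calc g⁻¹ * y * g * b = g⁻¹ * (y * (g * b * g⁻¹)) * g := by group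
        _ = g⁻¹ * (g * b * g⁻¹ * y) * g := by rw [h2]
        _ = _ := by group
    have h4 : orderOf (g⁻¹ * y * g) = orderOf y := by
      have := MulAut.conj g⁻¹ |>.orderOf_eq y
      simpa [MulAut.conj_apply] using this
    rw [← h4, ← orderOf_mk _ h3]
    exact orderOf_dvd_natCard _

end Cfsg.Agent.H513.PQ
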