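import Cfsg.Agent.H513.HNF.Main
import Cfsg.Agent.H513.PQ.Tool

/-!
# S4612: `¬ PQ 5 q HN` for `q = 2, 3, 7` (helper513)

The centraliser of an element of the class 5A involves `PSU₃(5)`.
-/

set_option autoImplicit false

namespace Cfsg.Agent.H513.PQ

open Cfsg.Agent.HN.Pres Cfsg.Agent.HN.H0Basic
open Cfsg.Agent.HN.P1408 hiding ψ
open Cfsg.Agent.HN.NormalH (ψ)
open Cfsg Cfsg.Agent
open Cfsg.Agent.KFacts.HN
open Cfsg.Agent.CpAutHNFive Cfsg.Agent.CpAutHNFive.TFive Cfsg.Agent.CpAutHNFive.HTab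
open Cfsg.Agent.CpAutHNFive.HFacts Cfsg.Agent.CpAutHNFive.TauFive Cfsg.Agent.CpAutHNFive.QD
open Cfsg.Agent.CpAutHNFive.Main Cfsg.Agent.H513.HNF
open Subgroup Cfsg.Agent.H317.PQ Cfsg.Agent.H358.A3

universe u

/-- a group with a component `PSU₃(5)` modulo `O_{5'}` -/
theorem not_PQ_of_comp {H : Type} [Group H] [Finite H] (L : Subgroup (H ⧸ pPrimeCore 5 H)) [hLn : L.Normal]
    (hL : IsComponent L) {F : Type} [Field F] [Fintype F] (hF : Fintype.card F = 5 ^ 2)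
    (e : (↥L ⧸ center ↥L) ≃* PSU 3 F 5) {q : ℕ} (hq : q.Prime) (hq5 : q ≠ 5) (hd : q ∣ 126000) : ¬ PQ 5 q H := by
  intro h
  have hp5 : Fact (Nat.Prime 5) := ⟨Nat.prime_five⟩
  have hn := Lib.Cores.pPrimeCore_normal (G := H) 5
  have hcop := Lib.Cores.pPrimeCore_coprime (G := H) 5
  have h1 : PQ 5 q (H ⧸ pPrimeCore 5 H) := PQ.quot_core Nat.prime_five hq hq5.symm h _ fun h5 => by
    have h3 := Nat.dvd_gcd h5 (dvd_refl 5)
    rw [hcop.gcd_eq_one] at h3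
    norm_num at h3
  have h2 : PQ 5 q ↥L := PQ.normal Nat.prime_five hq hq5.symm h1 L
  have hb : pPrimeCore 5 (H ⧸ pPrimeCore 5 H) = ⊥ := Lib.Cores.pPrimeCore_quotient_pPrimeCore 5
  have hZ : IsPGroup 5 ↥(center ↥L) := LThree.Red.isPGroup_center_comp Nat.prime_five hb hL.1
  have h3 : PQ 5 q (↥L ⧸ center ↥L) := PQ.quot_center Nat.prime_five hq hq5.symm h2 _ le_rfl hZ
  have hsimp : IsSimpleGroup (↥L ⧸ center ↥L) := hL.2.2
  have hc := Num.card_psu hF e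
  norm_num at hc
  refine H101.PQ.not_PQ_own Nat.prime_five hq hq5 (Num.isLieTypeChar hF e) ?_ h3
  rw [show Nat.card (↥L ⧸ center ↥L) = 126000 by omega]
  exact hd

/-- **`HN`** -/
theorem not_PQ_HN {q : ℕ} (hq : q.Prime) (hq5 : q ≠ 5) (hd : q ∣ 126000) : ¬ PQ 5 q Cfsg.Spor.HN := by
  intro h
  have hp5 : Fact (Nat.Prime 5) := ⟨Nat.prime_five⟩
  obtain ⟨f, hf, X⟩ := exists_dat'
  have hx : orderOf (ψ (hw w2)) = 5 := by rw [orderOf_injective _ emb.inj, order_w2]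
  have hcard : Nat.card ↥(centralizer ({ψ (hw w2)} : Set G)) ∣ Num.N0 := by
    have h1 := card_subgroup_dvd_card (centralizer ({ψ (hw w2)} : Set G))
    rw [Classes.card_HN] at h1
    exact h1
  obtain ⟨L, hL⟩ := exists_L X hf
  obtain ⟨hLn, hW, hgL, F, _, _, hF, ⟨e⟩⟩ := comp_data X hcard L hL
  exact not_PQ_of_comp L hL hF e hq hq5 hd (PQ.centralizer Nat.prime_five hq hq5.symm h ⟨1, by rw [hx, pow_one]⟩)

theorem not_PQ_hn {S : Type u} [Group S] (h : Cfsg.Spor.IsoHN S) {q : ℕ} (hq : q.Prime) (hq5 : q ≠ 5)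
    (hd : q ∣ 126000) : ¬ PQ 5 q S := by
  obtain ⟨e⟩ := h
  exact fun h => not_PQ_HN hq hq5 hd (PQ.of_equiv e h)

theorem not_PQ_five_three {S : Type u} [Group S] (h : Cfsg.Spor.IsoHN S) : ¬ PQ 5 3 S :=
  not_PQ_hn h Nat.prime_three (by norm_num) (by norm_num)

theorem not_PQ_five_seven {S : Type u} [Group S] (h : Cfsg.Spor.IsoHN S) : ¬ PQ 5 7 S :=
  not_PQ_hn h (by norm_num) (by norm_num) (by norm_num)

theorem not_PQ_five_two {S : Type u} [Group S] (h : Cfsg.Spor.IsoHN S) : ¬ PQ 5 2 S :=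
  not_PQ_hn h Nat.prime_two (by norm_num) (by norm_num)

end Cfsg.Agent.H513.PQ
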