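import Cfsg.Agent.H513.PQ.Tool
import Cfsg.Agent.H968.PQ.Mathieu
import Cfsg.Agent.H819.K4.HS
import Cfsg.Agent.H904.El.HS
import Cfsg.Agent.H846.PB.HS
import Cfsg.Agent.BpSpor.UniqueNC
import Cfsg.Agent.S4499

/-!
# S4612: the row of `HS` (helper513)

Degrees `77`, `175`, `825`, the values at the involution of the class 2B; `near_dz` : characters of degree divisible
by `p ^ (a - 1)` are not in the principal block (S4499).
-/

set_option autoImplicit false
set_option maxRecDepth 100000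

open Cfsg Subgroup

namespace Cfsg.Agent.H513.PQ

open Cfsg.Agent.H317.PQ Cfsg.Agent.Blocks.Basic Cfsg.Agent.Blocks.Local

/-- characters of almost defect zero -/
theorem near_dz {G : Type*} [Group G] [Finite G] {p b : ℕ} (hp : p.Prime) (hb : b ≠ 0) {χ : IrrCharacter G}
    (hd : p ^ b ∣ charDegree (χ : G → ℂ)) (hG : p ^ (b + 1) ∣ Nat.card G) (hG' : ¬ p ^ (b + 2) ∣ Nat.card G) :
    χ ∉ B0 p G := by
  have hpF : Fact p.Prime := ⟨hp⟩
  intro hm
  obtain ⟨M, hM⟩ := Blocks.ExistsModular.exists_isPModular hp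
  have hMp : M.IsPrime := isPrime_of_isPModular hM
  rw [B0_eq hp hM] at hm
  have hf : (Nat.card G).factorization p = b + 1 := by
    have h1 := (hp.pow_dvd_iff_le_factorization Nat.card_pos.ne').1 hG
    have h2 : ¬ b + 2 ≤ (Nat.card G).factorization p := fun h =>
      hG' ((hp.pow_dvd_iff_le_factorization Nat.card_pos.ne').2 h)
    omega
  have h1 : (⟨_, isIrrCharacter_one⟩ : IrrCharacter G) ∈ principalBlock M G := sameBlock_refl _
  have h2 := S4499.result p M hM ((dvd_pow_self p (Nat.succ_ne_zero b)).trans hG) (principalBlock M G)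
    ⟨⟨_, isIrrCharacter_one⟩, rfl⟩ χ hm (by rw [hf, Nat.add_sub_cancel]; exact hd) _ h1
  rw [hf, Nat.add_sub_cancel] at h2
  have h3 : charDegree ((⟨_, isIrrCharacter_one⟩ : IrrCharacter G) : G → ℂ) = 1 := charDegree_of_eq (by simp)
  rw [h3] at h2
  exact hp.one_lt.ne' (Nat.dvd_one.1 ((dvd_pow_self p hb).trans h2))

/-- a member and a nonmember -/
theorem kill_of {G : Type*} [Group G] {p q : ℕ} {χ : IrrCharacter G} (h1 : χ ∈ B0 p G) (h2 : χ ∉ B0 q G) :
    ¬ Same p q G := fun h => h2 (by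
  have h3 : B0 p G = B0 q G := h
  rwa [← h3])

end Cfsg.Agent.H513.PQ

namespace Cfsg.Agent.H513.PQ.HS

open Cfsg.Agent.H317.PQ Cfsg.Agent.H709.PB Cfsg.Agent.H513.PQ Cfsg.Agent.H766.PQ
open Cfsg.Agent.Blocks.Basic Cfsg.Agent.Blocks.Local
open Cfsg.Agent.H904.HSCent Cfsg.Agent.HN.HS100
open Cfsg.Agent.H819.K4 Cfsg.Agent.H819.K4.HSCol
open Cfsg.Agent.SporadicA.PermTab Cfsg.Agent.H678.DG.PairRep Cfsg.Agent.H678.DG.Blk Cfsg.Agent.KFacts.HS

universe u

variable {S : Type u} [Group S]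

theorem card_s (h : Spor.IsoHS S) : Nat.card S = 44352000 := NotCT.Orders.hs h

theorem prime_cases {p : ℕ} (hp : p.Prime) (h : p ∣ 44352000) : p = 2 ∨ p = 3 ∨ p = 5 ∨ p = 7 ∨ p = 11 := by
  have h1 : (44352000 : ℕ) = 2 ^ 9 * (3 ^ 2 * (5 ^ 3 * (7 * 11))) := by norm_num
  rw [h1] at h
  rcases (Nat.Prime.dvd_mul hp).1 h with h | h
  · exact Or.inl ((Nat.prime_dvd_prime_iff_eq hp Nat.prime_two).1 (hp.dvd_of_dvd_pow h))
  rcases (Nat.Prime.dvd_mul hp).1 h with h | h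
  · exact Or.inr (Or.inl ((Nat.prime_dvd_prime_iff_eq hp Nat.prime_three).1 (hp.dvd_of_dvd_pow h)))
  rcases (Nat.Prime.dvd_mul hp).1 h with h | h
  · exact Or.inr (Or.inr (Or.inl ((Nat.prime_dvd_prime_iff_eq hp (by norm_num)).1 (hp.dvd_of_dvd_pow h))))
  rcases (Nat.Prime.dvd_mul hp).1 h with h | h
  · exact Or.inr (Or.inr (Or.inr (Or.inl ((Nat.prime_dvd_prime_iff_eq hp (by norm_num)).1 h))))
  · exact Or.inr (Or.inr (Or.inr (Or.inr ((Nat.prime_dvd_prime_iff_eq hp (by norm_num)).1 h))))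

theorem finite_s (h : Spor.IsoHS S) : Finite S := Nat.finite_of_card_ne_zero (by rw [card_s h]; norm_num)

/-! ### the blocks of full defect -/

theorem nb_two (h : Spor.IsoHS S) : NB 2 1 S := by
  have : Fact (Nat.Prime 2) := ⟨Nat.prime_two⟩
  have : Finite S := finite_s h
  obtain ⟨T⟩ : Nonempty (Sylow 2 S) := inferInstance
  have h1 := Cfsg.Agent.QTNorm.HSRow.selfN_hs h
  exact NB.of_sylow T (T.isPGroup'.to_le (le_trans (centralizer_le_normalizer _) (h1 T)))

theorem nb_seven (h : Spor.IsoHS S) : NB 7 1 S := by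
  have : Fact (Nat.Prime 7) := ⟨by norm_num⟩
  have : Finite S := finite_s h
  obtain ⟨x, hx⟩ := exists_prime_orderOf_dvd_card' (G := S) 7 (by rw [card_s h]; norm_num)
  exact NB.of_self (IsPGroup.of_card (n := 1) (by rw [Cfsg.Agent.H904.HSIso.card_seven h hx, pow_one]))
    ⟨1, by rw [hx, pow_one]⟩

theorem nb_eleven (h : Spor.IsoHS S) : NB 11 1 S := by
  have : Fact (Nat.Prime 11) := ⟨by norm_num⟩
  have : Finite S := finite_s h
  obtain ⟨x, hx⟩ := exists_prime_orderOf_dvd_card' (G := S) 11 (by rw [card_s h]; norm_num)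
  exact NB.of_self (IsPGroup.of_card (n := 1) (by rw [Cfsg.Agent.H904.HSIso.card_eleven h hx, pow_one]))
    ⟨1, by rw [hx, pow_one]⟩

theorem nb_five (h : Spor.IsoHS S) : NB 5 1 S := by
  have : Fact (Nat.Prime 5) := ⟨by norm_num⟩
  have : Finite S := finite_s h
  obtain ⟨D, ψ, R⟩ := exists_rep h
  obtain ⟨b, hb, hb50⟩ := Cfsg.Agent.H904.El.HS.exists_small R
  have hb25 := Cfsg.Agent.BpSpor.sq_dvd_centralizer (by norm_num) hb (by rw [card_s h]; norm_num)
  refine nb_of_cent (a := 3) (by rw [card_s h]; norm_num) (by rw [card_s h]; norm_num) ?_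
  intro y hy h5 h125 hall
  have hd : orderOf y ∣ 44352000 := by rw [← card_s h]; exact orderOf_dvd_natCard y
  rcases prime_cases hy hd with h' | h' | h' | h' | h'
  · rcases Cfsg.Agent.H846.PB.hs_inv h h' with h'' | h'' <;> rw [h''] at h125 <;> norm_num at h125
  · have h1 := hall b hb
    rw [h'] at h1
    have h2 : 3 * 5 ^ 2 ∣ Nat.card (centralizer ({b} : Set S)) :=
      Nat.Coprime.mul_dvd_of_dvd_of_dvd (by norm_num) h1 hb25
    have := Nat.le_of_dvd Nat.card_pos h2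
    omega
  · exact h5 h'
  · rw [Cfsg.Agent.H904.HSIso.card_seven h h'] at h125
    norm_num at h125
  · rw [Cfsg.Agent.H904.HSIso.card_eleven h h'] at h125
    norm_num at h125

/-! ### the characters -/

/-- the number of edges with given colour of `x`, `w x` -/
def nw (u : ℕ) : ℕ := [20, 0, 360, 480, 240].getD u 0

theorem chk_w : allB (fun u => cntB (fun x => Nat.beq (cd (cn x (ap ea eb ix tw x))) u) 1100 (nw u)) 5 = true := by
  decide +kernel

theorem sum_w {g : Q} (hg : ∀ k : E, (g • k).val = ap ea eb ix tw k.val) (ω : Fin 5 → ℚ) :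
    ∑ x : E, ω (c x (g • x)) = ∑ u : Fin 5, (nw u : ℚ) * ω u := by
  classical
  have h1 : ∀ u : Fin 5, ((Finset.univ.filter fun x : E => c x (g • x) = u).card : ℚ) = nw u := by
    intro u
    have h2 := card_E _ ((allB_iff _ _).1 chk_w u u.2)
    rw [← h2, Nat.card_eq_fintype_card, Fintype.card_subtype]
    congr 2
    ext x
    simp only [Finset.mem_filter, Finset.mem_univ, true_and]
    rw [← hg]
    constructor
    · intro h
      rw [← h]
      exact Nat.beq_refl _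
    · intro h
      exact Fin.ext (Nat.eq_of_beq_eq_true h)
  rw [← Finset.sum_fiberwise (s := Finset.univ) (g := fun x : E => c x (g • x)) (f := fun x => ω (c x (g • x)))]
  refine Finset.sum_congr rfl fun u _ => ?_
  rw [← h1, Finset.sum_congr rfl (g := fun _ => ω u) (fun x hx => by rw [(Finset.mem_filter.1 hx).2]),
    Finset.sum_const, nsmul_eq_mul]

theorem exists_char {f : ℕ} {θ : ℚ} {ω : Fin 5 → ℚ} (L : Fin 5 → Fin 5 → ℚ)
    (h1 : ω 0 = 1)
    (h2 : ∀ u, ∑ w, ((∑ w', t 2 w' : ℕ) : ℚ) * (t u w : ℚ) * ω w = θ * ((∑ w, t u w : ℕ) : ℚ) * ω u)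
    (h3 : ∀ i j, ∑ l, L i l * (((∑ w', t 2 w' : ℕ) : ℚ) * (t l j : ℚ) - if l = j then θ * ((∑ w, t l w : ℕ) : ℚ) else 0) =
      (if i = j then 1 else 0) - if j = 0 then ω i else 0)
    (h4 : (f : ℚ) * ∑ u, ((∑ w, t u w : ℕ) : ℚ) * ω u ^ 2 = 1100)
    {n : ℤ} (h5 : (f : ℚ) / 1100 * ∑ u : Fin 5, (nw u : ℚ) * ω u = n) :
    ∃ χ : Q → ℂ, IsIrrCharacter Q χ ∧ χ 1 = f ∧
      ∀ g : Q, (∀ k : E, (g • k).val = ap ea eb ix tw k.val) → χ g = n := by
  have hE := ColVal.eig_of (a := 2) (o := 0) (t := t) (θ := θ) (ω := ω) L h1 h2 h3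
  rw [← col_z0] at hE
  obtain ⟨χ, hχ, hd, hv⟩ := ColVal.exists_val col ht hE (f := f) (by rw [card_E', h4]; norm_num)
  refine ⟨χ, hχ, hd, fun g hg => ?_⟩
  rw [hv, sum_w hg, card_E', show ((1100 : ℕ) : ℚ) = 1100 by norm_num, h5, Rat.cast_intCast]

/-- degree 77 -/
theorem exists_77 : ∃ χ : Q → ℂ, IsIrrCharacter Q χ ∧ χ 1 = (77 : ℕ) ∧
    ∀ g : Q, (∀ k : E, (g • k).val = ap ea eb ix tw k.val) → χ g = (1 : ℤ) :=
  exists_char (θ := 5) (ω := ![1, 11/21, 1/21, -1/84, -1/14])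
    ![![0, 0, 0, 0, 0], ![5/168, -3/280, -1/280, 1/840, 0], ![1/105, 0, 0, 0, 0], ![-1/420, 1/3360, 0, 0, 0],
      ![-1/560, 1/840, 1/1680, -1/6720, 0]]
    rfl (by decide +kernel) (by decide +kernel) (by decide +kernel) (by decide +kernel)

/-- degree 175 -/
theorem exists_175 : ∃ χ : Q → ℂ, IsIrrCharacter Q χ ∧ χ 1 = (175 : ℕ) ∧
    ∀ g : Q, (∀ k : E, (g • k).val = ap ea eb ix tw k.val) → χ g = (11 : ℤ) :=
  exists_char (θ := 17) (ω := ![1, -1/21, 17/105, -1/21, 2/35])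
    ![![0, 0, 0, 0, 0], ![-151/20832, -11/6944, -5/6944, 5/20832, 0], ![1/105, 0, 0, 0, 0],
      ![-289/83328, 5/83328, -3/27776, 1/27776, 0], ![359/69440, 1/5952, 61/208320, -1/20832, 0]]
    rfl (by decide +kernel) (by decide +kernel) (by decide +kernel) (by decide +kernel)

/-- degree 825 -/
theorem exists_825 : ∃ χ : Q → ℂ, IsIrrCharacter Q χ ∧ χ 1 = (825 : ℕ) ∧
    ∀ g : Q, (∀ k : E, (g • k).val = ap ea eb ix tw k.val) → χ g = (9 : ℤ) :=
  exists_char (θ := -3) (ω := ![1, -1/21, -1/35, 1/84, -1/70])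
    ![![0, 0, 0, 0, 0], ![-103/4536, 53/13608, 5/4536, -5/13608, 0], ![1/105, 0, 0, 0, 0],
      ![-1/9072, -5/54432, -1/9072, 1/27216, 0], ![37/15120, -1/2268, 1/15120, 1/36288, 0]]
    rfl (by decide +kernel) (by decide +kernel) (by decide +kernel) (by decide +kernel)

/-- transport to `S` -/
theorem transport {D : Cfsg.Agent.KFacts.HS.Mod S} {ψ : S →* Equiv.Perm (Fin 100)} (R : Rep S D ψ) {f : ℕ} {n : ℤ}
    (h : ∃ χ : Q → ℂ, IsIrrCharacter Q χ ∧ χ 1 = (f : ℕ) ∧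
      ∀ g : Q, (∀ k : E, (g • k).val = ap ea eb ix tw k.val) → χ g = n) :
    ∃ χ : IrrCharacter S, charDegree (χ : S → ℂ) = f ∧ (χ : S → ℂ) 1 = (f : ℕ) ∧ (χ : S → ℂ) (DFour.wB D) = n := by
  obtain ⟨χ, hχ, h1, h2⟩ := h
  let e : S ≃* Q := (MonoidHom.ofInjective R.inj).trans (MulEquiv.subgroupCongr R.range)
  have he : ∀ s : S, ((e s : Q) : Equiv.Perm (Fin 100)) = ψ s := fun s => rfl
  have h3 : IsIrrCharacter S (χ ∘ e) := Characters.Core.isIrr_comp e.toMonoidHom e.surjective hχ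
  refine ⟨⟨_, h3⟩, ?_, ?_, ?_⟩
  · refine charDegree_of_eq ?_
    show χ (e 1) = _
    rw [map_one, h1]
  · show χ (e 1) = _
    rw [map_one, h1]
  · refine h2 (e (DFour.wB D)) fun k => smul_tab (fun i => ?_) k
    rw [he, R.map_wB]
    exact w_val i

/-- **The row of `HS`.** -/
theorem row_hs (h : Spor.IsoHS S) : Row S := by
  have hfin : Finite S := finite_s h
  have hc : Nat.card S = 44352000 := card_s h
  obtain ⟨D, ψ, R⟩ := exists_rep h
  obtain ⟨a, ha, ha1, haw⟩ := transport R exists_77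
  obtain ⟨b, hb, hb1, hbw⟩ := transport R exists_175
  obtain ⟨d, hd, hd1, hdw⟩ := transport R exists_825
  have a3 : a ∉ B0 3 S := H968.PQ.Mathieu.not_mem_of_class (n := 44352000) (m := 2880) (q := 3) (d := 77) (v := 1) (c := 15200)
    hc (by norm_num) (by rw [ha1]; norm_num) haw (card_wB R) (by norm_num) (by norm_num) (by norm_num)
  have b3 : b ∉ B0 3 S := H968.PQ.Mathieu.not_mem_of_class (n := 44352000) (m := 2880) (q := 3) (d := 175) (v := 11) (c := 14432)
    hc (by norm_num) (by rw [hb1]; norm_num) hbw (card_wB R) (by norm_num) (by norm_num) (by norm_num)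
  have d3 : d ∉ B0 3 S := near_dz (b := 1) (by norm_num) (by norm_num) (by rw [hd]; norm_num) (by rw [hc]; norm_num)
    (by rw [hc]; norm_num)
  have b5 : b ∉ B0 5 S := near_dz (b := 2) (by norm_num) (by norm_num) (by rw [hb]; norm_num) (by rw [hc]; norm_num)
    (by rw [hc]; norm_num)
  apply Row.of_lt
  intro p q hp hq hpq hpG hqG
  rw [hc] at hpG hqG
  rcases prime_cases hp hpG with rfl | rfl | rfl | rfl | rfl <;>
    rcases prime_cases hq hqG with rfl | rfl | rfl | rfl | rfl <;>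
    first
      | (exfalso; revert hpq; decide)
      | skip
  · exact kill_of (H968.PQ.Mathieu.mem_of_nb hp (nb_two h) (by rw [ha]; norm_num)) a3
  · exact kill_of (H968.PQ.Mathieu.mem_of_nb hp (nb_two h) (by rw [hb]; norm_num)) b5
  · exact kl hc (b := 1) ⟨a, ha⟩ hp hq (nb_two h) (by decide +kernel)
  · exact kl hc (b := 1) ⟨a, ha⟩ hp hq (nb_two h) (by decide +kernel)
  · exact fun hS => kill_of (H968.PQ.Mathieu.mem_of_nb hq (nb_five h) (by rw [ha]; norm_num)) a3 hS.symm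
  · exact fun hS => kill_of (H968.PQ.Mathieu.mem_of_nb hq (nb_seven h) (by rw [hd]; norm_num)) d3 hS.symm
  · exact fun hS => kill_of (H968.PQ.Mathieu.mem_of_nb hq (nb_eleven h) (by rw [hb]; norm_num)) b3 hS.symm
  · exact kl hc (b := 1) ⟨a, ha⟩ hp hq (nb_five h) (by decide +kernel)
  · exact kl hc (b := 1) ⟨a, ha⟩ hp hq (nb_five h) (by decide +kernel)
  · exact kl hc (b := 1) ⟨d, hd⟩ hp hq (nb_seven h) (by decide +kernel)

end Cfsg.Agent.H513.PQ.HS
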