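import Cfsg.Agent.H301.PQ.FiTwentyFour
import Cfsg.Agent.H657.FourFi.Fi24
import Cfsg.Agent.H488.PQ.Tools
import Cfsg.Agent.H894.PQ.Tools

/-!
# S4612: pairs of `Fi₂₄'` (helper513)

* `not_PQ_two`, (2,3) : the centralizer `2.Fi₂₂.2` of a product of two commuting transpositions;
* `not_same` : the pairs which follow from helper301's characters of degrees 57477 and 249458, and from counts.
-/

set_option autoImplicit false

open Cfsg Cfsg.Agent

namespace Cfsg.Agent.H513.PQ.FiTF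

open Cfsg.Agent.H317.PQ Cfsg.Agent.H358.A3 Cfsg.Agent.H488.PQ Cfsg.Agent.CTwoTab.FiTF Subgroup
open Cfsg.Agent.H101.PQ Cfsg.Agent.H642.PQ
open Cfsg.Spor (Fi24 Fi24')

theorem card : Nat.card Fi24' = 1255205709190661721292800 := H301.PQ.FiTwentyFour.card

theorem not_PQ_two {q : ℕ} (hq : q = 3 ∨ q = 5 ∨ q = 7 ∨ q = 11) : ¬ PQ 2 q Fi24' := by
  intro h
  have hfin2 : Finite Fi24 := Cfsg.Agent.R08.FiTwentyFour.finite_Fi24
  have hfin : Finite Fi24' := H301.PQ.FiTwentyFour.finite_fi24'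
  have hqp : q.Prime := by rcases hq with rfl | rfl | rfl | rfl <;> norm_num
  have hq2 : q ≠ 2 := by rcases hq with rfl | rfl | rfl | rfl <;> norm_num
  have hT := KFacts.FiTF.Tet.isTet (t := 0) (by norm_num)
  generalize KFacts.FiTF.Defs.D 0 0 = a at hT
  generalize KFacts.FiTF.Defs.D 0 1 = b at hT
  obtain ⟨P⟩ := R08.TetFi24A.exists_at hT.ha hT.hb hT.nab hT.ab
  set t : Spor.Fi24' := ⟨a * b, Cfsg.Agent.R08.FiTwentyFour.even hT.ha hT.hb⟩ with htdef
  have ht : (t : Fi24) = a * b := rfl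
  have ho : orderOf t = 2 := by
    have : Fact (Nat.Prime 2) := ⟨Nat.prime_two⟩
    refine orderOf_eq_prime ?_ ?_
    · apply Subtype.ext
      have h2 := congrArg Subtype.val (H657.FourFi.zz_pair P)
      rw [pow_two]
      show (t : Fi24) * (t : Fi24) = 1
      rw [ht, ← P.hz]
      exact h2
    · intro h1
      have h2 : (t : Fi24) = 1 := congrArg Subtype.val h1
      rw [ht] at h2
      have h3 := Cfsg.Agent.R08.FiTwentyFour.sq P.hb
      exact P.ne (mul_right_cancel (h2.trans h3.symm))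
  have h1 : PQ 2 q ↥(N a b) := by
    refine pq_sub Nat.prime_two hqp hq2.symm h (x := t) ⟨1, by rw [ho, pow_one]⟩ ?_ ?_
    · exact fun l hl => mem_centralizer_singleton_iff.1 (N_le ht hl)
    · exact fun c hc l hl => H657.FourFi.conj_mem_N P ht (mem_centralizer_singleton_iff.2 hc) hl
  have h2 := PQ.of_equiv (eN a b) h1
  exact H301.PQ.FiTwentyTwo.not_PQ_two ⟨MulEquiv.refl _⟩ hq
    (PQ.map_central Nat.prime_two hqp hq2.symm h2 P.π P.lift.ext.surj (ker_le P))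

/-- the pairs -/
def LL : List (ℕ × ℕ) := [(2, 3), (2, 5), (2, 7), (2, 11), (2, 13), (2, 17), (2, 23), (2, 29), (3, 5), (3, 7), (3, 11),
  (3, 13), (3, 17), (3, 23), (3, 29), (5, 7), (5, 29), (7, 11), (7, 17), (7, 23), (7, 29), (13, 29), (17, 29), (23, 29),
  (11, 17), (11, 23), (17, 23)]

/-- **27 pairs of `Fi₂₄'`.** -/
theorem not_same {p q : ℕ} (h : (p, q) ∈ LL) : ¬ Same p q Fi24' := by
  have hfin : Finite Fi24' := H301.PQ.FiTwentyFour.finite_fi24'
  obtain ⟨a, b, ha, hb, a2, b2, a3, b3, a5, b5, a7, b7, b11, a13, a17, b17, a23, b23, a29, b29⟩ :=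
    H301.PQ.FiTwentyFour.blocks
  have hk : ∀ {p q : ℕ}, p.Prime → q.Prime → p ≠ 2 → q ≠ 2 → p ∣ 1255205709190661721292800 →
      ¬ p ^ 2 ∣ 1255205709190661721292800 → q ∣ 1255205709190661721292800 → ¬ q ^ 2 ∣ 1255205709190661721292800 →
      (∀ e < p, ∀ f < q, e ∣ p - 1 → f ∣ q - 1 → e + (p - 1) / e ≠ f + (q - 1) / f) → ¬ Same p q Fi24' := by
    intro p q hp hq h1 h2 h3 h4 h5 h6 h7
    exact H894.PQ.kill_count hp hq h1 h2 (by rw [card]; exact h3) (by rw [card]; exact h4) (by rw [card]; exact h5)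
      (by rw [card]; exact h6) h7
  unfold LL at h
  simp only [List.mem_cons, Prod.mk.injEq, List.not_mem_nil, or_false] at h
  rcases h with ⟨rfl, rfl⟩ | ⟨rfl, rfl⟩ | ⟨rfl, rfl⟩ | ⟨rfl, rfl⟩ | ⟨rfl, rfl⟩ | ⟨rfl, rfl⟩ | ⟨rfl, rfl⟩ | ⟨rfl, rfl⟩ |
    ⟨rfl, rfl⟩ | ⟨rfl, rfl⟩ | ⟨rfl, rfl⟩ | ⟨rfl, rfl⟩ | ⟨rfl, rfl⟩ | ⟨rfl, rfl⟩ | ⟨rfl, rfl⟩ | ⟨rfl, rfl⟩ |
    ⟨rfl, rfl⟩ | ⟨rfl, rfl⟩ | ⟨rfl, rfl⟩ | ⟨rfl, rfl⟩ | ⟨rfl, rfl⟩ | ⟨rfl, rfl⟩ | ⟨rfl, rfl⟩ | ⟨rfl, rfl⟩ |
    ⟨rfl, rfl⟩ | ⟨rfl, rfl⟩ | ⟨rfl, rfl⟩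
  · exact fun h => not_PQ_two (Or.inl rfl) (PQ.of_same Nat.prime_three h)
  · exact not_same_of_mem a2 a5
  · exact not_same_of_mem a2 a7
  · exact not_same_of_mem b2 b11
  · exact not_same_of_mem a2 a13
  · exact not_same_of_mem a2 a17
  · exact not_same_of_mem a2 a23
  · exact not_same_of_mem b2 b29
  · exact not_same_of_mem a3 a5
  · exact not_same_of_mem a3 a7
  · exact not_same_of_mem b3 b11
  · exact not_same_of_mem a3 a13
  · exact not_same_of_mem a3 a17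
  · exact not_same_of_mem a3 a23
  · exact not_same_of_mem b3 b29
  · exact fun h => not_same_of_mem b7 b5 h.symm
  · exact fun h => not_same_of_mem a29 a5 h.symm
  · exact not_same_of_mem b7 b11
  · exact not_same_of_mem b7 b17
  · exact not_same_of_mem b7 b23
  · exact not_same_of_mem b7 b29
  · exact fun h => not_same_of_mem a29 a13 h.symm
  · exact fun h => not_same_of_mem a29 a17 h.symm
  · exact fun h => not_same_of_mem a29 a23 h.symm
  · exact hk (by norm_num) (by norm_num) (by norm_num) (by norm_num) (by norm_num) (by norm_num) (by norm_num)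
      (by norm_num) (by decide +kernel)
  · exact hk (by norm_num) (by norm_num) (by norm_num) (by norm_num) (by norm_num) (by norm_num) (by norm_num)
      (by norm_num) (by decide +kernel)
  · exact hk (by norm_num) (by norm_num) (by norm_num) (by norm_num) (by norm_num) (by norm_num) (by norm_num)
      (by norm_num) (by decide +kernel)

end Cfsg.Agent.H513.PQ.FiTF
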