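import Cfsg.Agent.H513.PQ.FiTF
import Cfsg.Agent.H635.PQ.FiTF
import Cfsg.Agent.H642.PQ.Full
import Cfsg.Agent.H766.PQ.A01
import Cfsg.Agent.H488.PQ.FiTFEnd
import Cfsg.Agent.H894.PQ.FiLink
import Cfsg.Agent.H217.Odm.Eng
import Cfsg.Agent.H502.TO.Gen
import Cfsg.Agent.H301.PQ.FiThirteen

/-!
# S4612: `Fi₂₄'`, the pair (11,29) and the row (helper513)

* `not_same_11_29` : `B0 11 = B0 29` gives `e + 10 / e` = 11 for the inertial index `e`, so `e` = 1 or 10; the character of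
  degree 57477 = 2 mod 11 is in `B0 29`; `not_same_13_23` : the same with helper635's character of degree 35873145;
* `not_same_11_13` : the principal 11-block has 11 characters;
* `row_of` : the row from the pair (5,13).
-/

set_option autoImplicit false

open Cfsg Cfsg.Agent

namespace Cfsg.Agent.H513.PQ.FiTF

open Cfsg.Agent.H317.PQ Cfsg.Agent.H642.PQ Subgroup
open Cfsg.Spor (Fi24 Fi24')

universe u

theorem exists_sylow {p : ℕ} (hp : p.Prime) (h1 : p ∣ 1255205709190661721292800)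
    (h2 : ¬ p ^ 2 ∣ 1255205709190661721292800) : ∃ P : Sylow p Fi24', Nat.card P = p := by
  have hpF : Fact p.Prime := ⟨hp⟩
  have hfin : Finite Fi24' := H301.PQ.FiTwentyFour.finite_fi24'
  obtain ⟨P⟩ : Nonempty (Sylow p Fi24') := inferInstance
  refine ⟨P, ?_⟩
  rw [P.card_eq_multiplicity, card]
  have h3 : (1255205709190661721292800 : ℕ).factorization p = 1 := by
    have h4 := (hp.dvd_iff_one_le_factorization (n := 1255205709190661721292800) (by norm_num)).1 h1
    have h5 : ¬ 2 ≤ (1255205709190661721292800 : ℕ).factorization p := fun h6 =>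
      absurd ((hp.pow_dvd_iff_le_factorization (by norm_num)).2 h6) h2
    omega
  rw [h3, pow_one]

/-- the number of characters of the principal block and the degrees -/
theorem exact {p : ℕ} (hp : p.Prime) (hp2 : p ≠ 2) (P : Sylow p Fi24') (hP : Nat.card P = p) :
    ∃ f, f ∣ p - 1 ∧ (Subgroup.centralizer ((P : Subgroup Fi24') : Set Fi24')).relIndex
      (Subgroup.normalizer ((P : Subgroup Fi24') : Set Fi24')) = f ∧
      Nat.card (B0 p Fi24') = f + (p - 1) / f ∧ ∀ χ ∈ B0 p Fi24',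
        (charDegree (χ : Fi24' → ℂ) : ℤ) ≡ 1 [ZMOD p] ∨ (charDegree (χ : Fi24' → ℂ) : ℤ) ≡ -1 [ZMOD p] ∨
        (charDegree (χ : Fi24' → ℂ) : ℤ) ≡ (f : ℤ) [ZMOD p] ∨ (charDegree (χ : Fi24' → ℂ) : ℤ) ≡ -(f : ℤ) [ZMOD p] := by
  have hpF : Fact p.Prime := ⟨hp⟩
  have hfin : Finite Fi24' := H301.PQ.FiTwentyFour.finite_fi24'
  obtain ⟨M, hM⟩ := Blocks.ExistsModular.exists_isPModular hp
  refine ⟨_, Cfsg.Agent.SmallSimple.BurnsideNC.relIndex_dvd_of_card_eq_prime P hP, rfl, ?_, ?_⟩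
  · rw [B0_eq hp hM]
    exact (Cfsg.Agent.S0960.result p M hM hp2 P hP _ rfl).1
  · exact fun χ hχ => deg_test hp hp2 P hP _ rfl hχ

theorem not_same_11_29 : ¬ Same 11 29 Fi24' := by
  intro hS
  have hfin : Finite Fi24' := H301.PQ.FiTwentyFour.finite_fi24'
  obtain ⟨a, -, ha, -, -, -, -, -, -, -, -, -, -, -, -, -, -, -, a29, -⟩ := H301.PQ.FiTwentyFour.blocks
  have h0 : B0 11 Fi24' = B0 29 Fi24' := hS
  obtain ⟨P, hP⟩ := exists_sylow (p := 11) (by norm_num) (by norm_num) (by norm_num)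
  obtain ⟨f, hdvd, -, h1, h4⟩ := exact (by norm_num) (by norm_num) P hP
  obtain ⟨e, he, h2⟩ := H894.PQ.exists_count (G := Fi24') (p := 29) (by norm_num) (by norm_num)
    (by rw [card]; norm_num) (by rw [card]; norm_num)
  rw [← h0, h1] at h2
  have hle := Nat.le_of_dvd (by norm_num) he
  have hle' := Nat.le_of_dvd (by norm_num) hdvd
  have hA : ∀ e < 29, e ∣ 29 - 1 → e + (29 - 1) / e ≠ 7 := by decide +kernel
  have hB : ∀ f < 11, f ∣ 11 - 1 → f ≠ 1 ∧ f ≠ 10 → f + (11 - 1) / f = 7 := by decide +kernel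
  have h3 : f = 1 ∨ f = 10 := by
    by_contra h3
    rw [not_or] at h3
    exact hA e (by omega) he (h2.symm.trans (hB f (by omega) hdvd h3))
  have h5 := h4 a (by rw [h0]; exact a29)
  rw [ha] at h5
  rcases h3 with h3 | h3 <;> rw [h3] at h5 <;> revert h5 <;> decide

theorem not_same_13_23 : ¬ Same 13 23 Fi24' := by
  intro hS
  have hfin : Finite Fi24' := H301.PQ.FiTwentyFour.finite_fi24'
  obtain ⟨a, ha, a23, -⟩ := H635.PQ.FiTF.f_23
  have h0 : B0 13 Fi24' = B0 23 Fi24' := hS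
  obtain ⟨P, hP⟩ := exists_sylow (p := 13) (by norm_num) (by norm_num) (by norm_num)
  obtain ⟨f, hdvd, -, h1, h4⟩ := exact (by norm_num) (by norm_num) P hP
  obtain ⟨e, he, h2⟩ := H894.PQ.exists_count (G := Fi24') (p := 23) (by norm_num) (by norm_num)
    (by rw [card]; norm_num) (by rw [card]; norm_num)
  rw [← h0, h1] at h2
  have hle := Nat.le_of_dvd (by norm_num) he
  have hle' := Nat.le_of_dvd (by norm_num) hdvd
  have hA : ∀ e < 23, e ∣ 23 - 1 → ¬ e + (23 - 1) / e < 13 := by decide +kernel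
  have hB : ∀ f < 13, f ∣ 13 - 1 → f ≠ 1 ∧ f ≠ 12 → f + (13 - 1) / f < 13 := by decide +kernel
  have h3 : f = 1 ∨ f = 12 := by
    by_contra h3
    rw [not_or] at h3
    exact hA e (by omega) he (h2 ▸ hB f (by omega) hdvd h3)
  have h5 := h4 a (by rw [h0]; exact a23)
  rw [ha] at h5
  rcases h3 with h3 | h3 <;> rw [h3] at h5 <;> revert h5 <;> decide

/-- the principal 11-block has 11 characters -/
theorem card_eleven : Nat.card (B0 11 Fi24') = 11 := by
  have hfin : Finite Fi24' := H301.PQ.FiTwentyFour.finite_fi24'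
  have hpF : Fact (Nat.Prime 11) := ⟨by norm_num⟩
  obtain ⟨P, hP⟩ := exists_sylow (p := 11) (by norm_num) (by norm_num) (by norm_num)
  obtain ⟨f, -, hf, h1, -⟩ := exact (by norm_num) (by norm_num) P hP
  have hcyc : IsCyclic P := isCyclic_of_prime_card hP
  obtain ⟨⟨y, hyP⟩, hy⟩ := IsCyclic.exists_generator (α := P)
  have hPy : (P : Subgroup Fi24') = zpowers y := by
    refine le_antisymm (fun u hu => ?_) (zpowers_le.2 hyP)
    obtain ⟨k, hk⟩ := mem_zpowers_iff.1 (hy ⟨u, hu⟩)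
    exact mem_zpowers_iff.2 ⟨k, congrArg Subtype.val hk⟩
  have ho : orderOf y = 11 := by rw [← Nat.card_zpowers, ← hPy]; exact hP
  have hc : Nat.card (centralizer ({y} : Set Fi24')) = 11 * 12 := by
    rw [H502.TO.card_cent_eq (by norm_num) (by rw [card]; norm_num) H843.Ore.R11.order_x ho]
    exact H488.PQ.FiTF.cent_card
  have h2 := (H217.Odm.norm_of_cent (r := 11) (n := 114109609926423792844800) (c := 12) (e := 10) (by norm_num)
    (by rw [card]) (by norm_num) ho hc (by norm_num) (by norm_num)).1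
  have h3 : Nat.card ↥(centralizer ((zpowers y : Subgroup Fi24') : Set Fi24')) = 11 * 12 := by
    rw [← hc]
    congr 2
    rw [zpowers_eq_closure, centralizer_closure]
  have h4 : f = 10 := by
    rw [← hf, hPy]
    have hle : centralizer ((zpowers y : Subgroup Fi24') : Set Fi24') ≤
        normalizer ((zpowers y : Subgroup Fi24') : Set Fi24') := centralizer_le_normalizer _
    have h5 := relIndex_mul_relIndex ⊥ _ _ bot_le hle
    rw [relIndex_bot_left, relIndex_bot_left, h2, h3] at h5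
    omega
  rw [h1, h4]

theorem not_same_11_13 : ¬ Same 11 13 Fi24' := by
  intro hS
  have hfin : Finite Fi24' := H301.PQ.FiTwentyFour.finite_fi24'
  have h0 : B0 11 Fi24' = B0 13 Fi24' := hS
  obtain ⟨e, he, h2⟩ := H894.PQ.exists_count (G := Fi24') (p := 13) (by norm_num) (by norm_num)
    (by rw [card]; norm_num) (by rw [card]; norm_num)
  rw [← h0, card_eleven] at h2
  have hle := Nat.le_of_dvd (by norm_num) he
  have key : ∀ e : ℕ, e < 13 → e ∣ 13 - 1 → 11 ≠ e + (13 - 1) / e := by decide +kernel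
  exact key e (by omega) he h2

/-- the pairs which are given -/
def Miss : List (ℕ × ℕ) := [(5, 13)]

/-- all other pairs -/
theorem not_same' {p q : ℕ} (h : (p, q) ∈ LL ++ [(5, 23), (13, 17), (11, 29), (13, 23), (11, 13), (5, 11), (7, 13),
    (5, 17)]) : ¬ Same p q Fi24' := by
  rw [List.mem_append] at h
  rcases h with h | h
  · exact not_same h
  simp only [List.mem_cons, Prod.mk.injEq, List.not_mem_nil, or_false] at h
  rcases h with ⟨rfl, rfl⟩ | ⟨rfl, rfl⟩ | ⟨rfl, rfl⟩ | ⟨rfl, rfl⟩ | ⟨rfl, rfl⟩ | ⟨rfl, rfl⟩ | ⟨rfl, rfl⟩ | ⟨rfl, rfl⟩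
  · obtain ⟨χ, -, h23, h5, -⟩ := H635.PQ.FiTF.f_23
    exact fun h => not_same_of_mem h23 h5 h.symm
  · obtain ⟨χ, -, h17, -, -, h13, -⟩ := H635.PQ.FiTF.c_17
    exact fun h => not_same_of_mem h17 h13 h.symm
  · exact not_same_11_29
  · exact not_same_13_23
  · exact not_same_11_13
  · exact H488.PQ.FiTFEnd.not_same_5_11
  · exact H894.PQ.Fi.not_same_7_13
  · exact H894.PQ.Fi.not_same_5_17

theorem prime_cases {p : ℕ} (hp : p.Prime) (h : p ∣ 1255205709190661721292800) :
    p = 2 ∨ p = 3 ∨ p = 5 ∨ p = 7 ∨ p = 11 ∨ p = 13 ∨ p = 17 ∨ p = 23 ∨ p = 29 := by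
  have h1 : (1255205709190661721292800 : ℕ) =
      2 ^ 21 * (3 ^ 16 * (5 ^ 2 * (7 ^ 3 * (11 * (13 * (17 * (23 * 29))))))) := by norm_num
  rw [h1] at h
  have hc : ∀ {s : ℕ}, s.Prime → p ∣ s → p = s := fun hs h => (Nat.prime_dvd_prime_iff_eq hp hs).1 h
  rcases (Nat.Prime.dvd_mul hp).1 h with h | h
  · exact Or.inl (hc Nat.prime_two (hp.dvd_of_dvd_pow h))
  rcases (Nat.Prime.dvd_mul hp).1 h with h | h
  · exact Or.inr (Or.inl (hc Nat.prime_three (hp.dvd_of_dvd_pow h)))
  rcases (Nat.Prime.dvd_mul hp).1 h with h | h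
  · exact Or.inr (Or.inr (Or.inl (hc Nat.prime_five (hp.dvd_of_dvd_pow h))))
  rcases (Nat.Prime.dvd_mul hp).1 h with h | h
  · exact Or.inr (Or.inr (Or.inr (Or.inl (hc (by norm_num) (hp.dvd_of_dvd_pow h)))))
  rcases (Nat.Prime.dvd_mul hp).1 h with h | h
  · exact Or.inr (Or.inr (Or.inr (Or.inr (Or.inl (hc (by norm_num) h)))))
  rcases (Nat.Prime.dvd_mul hp).1 h with h | h
  · exact Or.inr (Or.inr (Or.inr (Or.inr (Or.inr (Or.inl (hc (by norm_num) h))))))
  rcases (Nat.Prime.dvd_mul hp).1 h with h | h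
  · exact Or.inr (Or.inr (Or.inr (Or.inr (Or.inr (Or.inr (Or.inl (hc (by norm_num) h)))))))
  rcases (Nat.Prime.dvd_mul hp).1 h with h | h
  · exact Or.inr (Or.inr (Or.inr (Or.inr (Or.inr (Or.inr (Or.inr (Or.inl (hc (by norm_num) h))))))))
  · exact Or.inr (Or.inr (Or.inr (Or.inr (Or.inr (Or.inr (Or.inr (Or.inr (hc (by norm_num) h))))))))

/-- **The row of `Fi₂₄'` from the given pairs.** -/
theorem row_of (h : ∀ p q : ℕ, (p, q) ∈ Miss → ¬ Same p q Fi24') {S : Type u} [Group S] (hS : Cfsg.Spor.IsoFi24' S) :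
    Row S := by
  obtain ⟨e⟩ := hS
  refine H766.PQ.Row.of_equiv e.symm ?_
  have hfin : Finite Fi24' := H301.PQ.FiTwentyFour.finite_fi24'
  apply Row.of_lt
  intro p q hp hq hpq hpG hqG
  rw [card] at hpG hqG
  rcases prime_cases hp hpG with rfl | rfl | rfl | rfl | rfl | rfl | rfl | rfl | rfl <;>
    rcases prime_cases hq hqG with rfl | rfl | rfl | rfl | rfl | rfl | rfl | rfl | rfl <;>
    first
      | (exfalso; revert hpq; decide)
      | exact not_same' (by decide)
      | exact h _ _ (by decide)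

/-- **The row of `Fi₂₄'`.** -/
theorem row_fi24 {S : Type u} [Group S] (hS : Cfsg.Spor.IsoFi24' S) : Row S := by
  refine row_of (fun p q h => ?_) hS
  unfold Miss at h
  simp only [List.mem_cons, Prod.mk.injEq, List.not_mem_nil, or_false] at h
  obtain ⟨rfl, rfl⟩ := h
  obtain ⟨b, -, h13, h5, -⟩ := H301.PQ.FiThirteen.mem_13
  exact fun h => not_same_of_mem h13 h5 h.symm

end Cfsg.Agent.H513.PQ.FiTF
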