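import Cfsg.Agent.H513.PQ.HNHecke
import Cfsg.Agent.H488.PQ.Alt
import Cfsg.Agent.H678.HNT.Cent
import Cfsg.Agent.H315.PwHN
import Cfsg.Agent.H217.Odm.Eng
import Cfsg.Agent.H766.PQ.A01

/-!
# S4612, the row `HN` (helper513)

* (2,3) : the centralizer `3 × A₉` of an element of order 3;
* the other pairs with 2, 3, 5 : the lattice test (`HNHecke`); (7,11) : 7 and 11 characters; (7,19) : counts;
* (11,19) : the lattice test for 19.
-/

set_option autoImplicit false

namespace Cfsg.Agent.H513.PQ.HNRow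

open Cfsg Cfsg.Agent Subgroup
open Cfsg.Agent.H317.PQ Cfsg.Agent.H358.A3 Cfsg.Agent.H488.PQ Cfsg.Agent.Blocks.Basic
open Equiv

universe u

/-! ### The pair (2,3) -/

set_option maxRecDepth 100000 in
theorem comm64 : ∀ c : Perm (Fin 6), c * (c[0, 1, 2, 3] * c[4, 5] : Perm (Fin 6)) = (c[0, 1, 2, 3] * c[4, 5]) * c →
    c ^ 4 = 1 := by
  decide +kernel

theorem sign64 : (c[0, 1, 2, 3] * c[4, 5] : Perm (Fin 6)) ∈ alternatingGroup (Fin 6) := by
  rw [Perm.mem_alternatingGroup]; decide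

/-- `PQ 3 2 A₆` fails. -/
theorem a6_two : ¬ PQ 3 2 (alternatingGroup (Fin 6)) := by
  obtain ⟨χ, hχ⟩ := Cfsg.Agent.H600.EightAlt.mem_gen (n := 4) (β := ![0, 3, 6]) (d := 9) (by decide) (by decide)
    (by decide +kernel) (by decide +kernel)
  have hχ' : charDegree (χ : alternatingGroup (Fin 6) → ℂ) = 9 := hχ
  have h0 : ∀ c : alternatingGroup (Fin 6), (∀ s ∈ ({⟨_, sign64⟩} : Set (alternatingGroup (Fin 6))), s * c = c * s) →
      c ^ 2 ^ 2 = 1 := fun c h => Subtype.ext (comm64 c (congrArg Subtype.val (h _ rfl)).symm)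
  have h1 : IsPGroup 2 (Subgroup.closure ({⟨_, sign64⟩} : Set (alternatingGroup (Fin 6)))) := by
    rw [← zpowers_eq_closure]
    refine IsPGroup.of_card (n := 2) ?_
    rw [Nat.card_zpowers]
    refine orderOf_eq_prime_pow (p := 2) (n := 1) (fun h => ?_) (h0 _ fun s hs => by rw [hs])
    exact absurd (congrArg Subtype.val h) (by decide +kernel)
  have h2 : IsPGroup 2 (Subgroup.centralizer ((Subgroup.closure ({⟨_, sign64⟩} :
      Set (alternatingGroup (Fin 6))) : Subgroup _) : Set (alternatingGroup (Fin 6)))) := by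
    intro c
    refine ⟨2, Subtype.ext ?_⟩
    refine h0 _ fun s hs => ?_
    exact (mem_centralizer_iff.1 c.2 s (subset_closure hs))
  exact not_PQ Nat.prime_three Nat.prime_two h1 h2 (χ := χ) (b := 2) (by rw [hχ']; norm_num) two_ne_zero
    (by rw [hχ']; norm_num) (by rw [card_a6]; norm_num)

/-- `PQ 3 2 A₉` fails. -/
theorem a9_two : ¬ PQ 3 2 (alternatingGroup (Fin 9)) := by
  intro h
  have hx : orderOf (⟨_, sign98⟩ : alternatingGroup (Fin 9)) = 3 := by
    have : Fact (Nat.Prime 3) := ⟨Nat.prime_three⟩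
    refine orderOf_eq_prime (Subtype.ext ?_) fun h1 => ?_
    · show (c[6, 7, 8] : Perm (Fin 9)) ^ 3 = 1
      decide +kernel
    · have h2 : (c[6, 7, 8] : Perm (Fin 9)) = 1 := congrArg Subtype.val h1
      exact mov98 6 (by decide) (by rw [h2]; rfl)
  have h1 : PQ 3 2 L9 := by
    refine pq_sub Nat.prime_three Nat.prime_two (by norm_num) h (x := ⟨_, sign98⟩) ⟨1, by rw [hx, pow_one]⟩ ?_ ?_
    · intro g hg
      apply Subtype.ext
      ext i
      show (((g : Perm (Fin 9)) ((c[6, 7, 8] : Perm (Fin 9)) i) : Fin 9) : ℕ) =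
        (((c[6, 7, 8] : Perm (Fin 9)) ((g : Perm (Fin 9)) i) : Fin 9) : ℕ)
      by_cases hi : (i : ℕ) < 6
      · rw [fix98 i hi, fix98 _ ((lt_iff hg i).2 hi)]
      · rw [hg i (by omega), hg _ (ge98 i (by omega))]
    · intro c hc g hg i hi
      have h2 : (c : Perm (Fin 9)) * (c[6, 7, 8] : Perm (Fin 9)) = (c[6, 7, 8] : Perm (Fin 9)) * (c : Perm (Fin 9)) :=
        congrArg Subtype.val hc
      have h7 : (c : Perm (Fin 9)) ((c : Perm (Fin 9))⁻¹ i) = i := Equiv.apply_symm_apply _ _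
      have h3 : 6 ≤ (((c : Perm (Fin 9))⁻¹ i : Fin 9) : ℕ) := by
        by_contra h4
        have h5 := fix98 _ (not_le.1 h4)
        have h6 : (c : Perm (Fin 9)) ((c[6, 7, 8] : Perm (Fin 9)) ((c : Perm (Fin 9))⁻¹ i)) =
            (c[6, 7, 8] : Perm (Fin 9)) ((c : Perm (Fin 9)) ((c : Perm (Fin 9))⁻¹ i)) :=
          congrArg (fun k : Perm (Fin 9) => k ((c : Perm (Fin 9))⁻¹ i)) h2
        rw [h5, h7] at h6
        exact mov98 i hi h6.symm
      show (c : Perm (Fin 9)) ((g : Perm (Fin 9)) ((c : Perm (Fin 9))⁻¹ i)) = i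
      rw [hg _ h3, h7]
  exact a6_two (PQ.of_equiv ((MulEquiv.ofBijective f9 f9_bij).trans (Equiv.altCongrHom e6)) h1)

open Cfsg.Agent.CpAutHN.Pairs Cfsg.Agent.CpAutHN.Second Cfsg.Agent.CpAutHN.NineAlt in
open Cfsg.Agent.H678.HNT.Cent in
theorem not_PQ_three_two : ¬ PQ 3 2 Cfsg.Spor.HN := by
  intro h
  have hfin : Finite Cfsg.Spor.HN := Cfsg.Agent.H492.IMHN.finite_hn
  have h1 : PQ 3 2 C1 := PQ.centralizer Nat.prime_three Nat.prime_two (by norm_num) h ⟨1, by rw [pow_one]; exact order_X1⟩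
  have hn : (Ψ.range : Subgroup C1).Normal := by
    constructor
    rintro _ ⟨b, rfl⟩ g
    obtain ⟨i, a, rfl⟩ := main g
    have h2 : xx ^ i * Ψ a * Ψ b * (xx ^ i * Ψ a)⁻¹ = Ψ (a * b * a⁻¹) := by
      have h3 : ∀ y : C1, xx ^ i * y * (xx ^ i)⁻¹ = y := fun y => by
        rw [((show Commute xx y from xx_comm y).zpow_left i).eq, mul_inv_cancel_right]
      rw [map_mul, map_mul, map_inv, mul_inv_rev]
      calc _ = xx ^ i * (Ψ a * Ψ b * (Ψ a)⁻¹) * (xx ^ i)⁻¹ := by group
        _ = _ := h3 _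
    rw [h2]
    exact ⟨_, rfl⟩
  have h2 : PQ 3 2 ↥(Ψ.range : Subgroup C1) := PQ.normal Nat.prime_three Nat.prime_two (by norm_num) h1 _
  exact a9_two (PQ.of_equiv (MonoidHom.ofInjective Ψ_inj).symm h2)

/-! ### The pair (7,11) -/

theorem card_HN : Nat.card Cfsg.Spor.HN = 273030912000000 := Cfsg.Agent.H492.IMHN.card_hn

/-- the principal 11-block has 11 characters -/
theorem card_eleven : Nat.card (B0 11 Cfsg.Spor.HN) = 11 := by
  have hfin : Finite Cfsg.Spor.HN := Cfsg.Agent.H492.IMHN.finite_hn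
  have hp : Nat.Prime 11 := by norm_num
  have hpF : Fact (Nat.Prime 11) := ⟨hp⟩
  obtain ⟨M, hM⟩ := Blocks.ExistsModular.exists_isPModular hp
  obtain ⟨P⟩ : Nonempty (Sylow 11 Cfsg.Spor.HN) := inferInstance
  have hP : Nat.card P = 11 := by
    rw [P.card_eq_multiplicity, card_HN]
    have h3 : (273030912000000 : ℕ).factorization 11 = 1 := by
      have h4 := (hp.dvd_iff_one_le_factorization (n := 273030912000000) (by norm_num)).1 (by norm_num)
      have h5 : ¬ 2 ≤ (273030912000000 : ℕ).factorization 11 := fun h6 =>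
        absurd ((hp.pow_dvd_iff_le_factorization (by norm_num)).2 h6) (by norm_num)
      omega
    rw [h3, pow_one]
  have hcyc : IsCyclic P := isCyclic_of_prime_card hP
  obtain ⟨⟨x, hxP⟩, hx⟩ := IsCyclic.exists_generator (α := P)
  have hPx : (P : Subgroup Cfsg.Spor.HN) = zpowers x := by
    refine le_antisymm (fun y hy => ?_) (zpowers_le.2 hxP)
    obtain ⟨k, hk⟩ := mem_zpowers_iff.1 (hx ⟨y, hy⟩)
    exact mem_zpowers_iff.2 ⟨k, congrArg Subtype.val hk⟩
  have ho : orderOf x = 11 := by rw [← Nat.card_zpowers, ← hPx]; exact hP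
  have h1 := (H217.Odm.norm_of_cent (r := 11) (n := 24820992000000) (c := 2) (e := 10) hp
    (by rw [card_HN]) (by norm_num) ho (H315.PwHN.card_eleven ho) (by norm_num) (by norm_num)).1
  have h2 : Nat.card ↥(centralizer ((zpowers x : Subgroup Cfsg.Spor.HN) : Set Cfsg.Spor.HN)) = 22 := by
    rw [← H315.PwHN.card_eleven ho]
    congr 2
    rw [zpowers_eq_closure, centralizer_closure]
  have h3 : (centralizer ((P : Subgroup Cfsg.Spor.HN) : Set Cfsg.Spor.HN)).relIndex
      (normalizer ((P : Subgroup Cfsg.Spor.HN) : Set Cfsg.Spor.HN)) = 10 := by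
    rw [hPx]
    have hle : centralizer ((zpowers x : Subgroup Cfsg.Spor.HN) : Set Cfsg.Spor.HN) ≤
        normalizer ((zpowers x : Subgroup Cfsg.Spor.HN) : Set Cfsg.Spor.HN) := centralizer_le_normalizer _
    have h4 := relIndex_mul_relIndex ⊥ _ _ bot_le hle
    rw [relIndex_bot_left, relIndex_bot_left, h1, h2] at h4
    omega
  rw [B0_eq hp hM, (Cfsg.Agent.S0960.result 11 M hM (by norm_num) P hP _ rfl).1, h3]

theorem not_same_seven_eleven : ¬ Same 7 11 Cfsg.Spor.HN := by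
  intro hS
  have hfin : Finite Cfsg.Spor.HN := Cfsg.Agent.H492.IMHN.finite_hn
  obtain ⟨e, he, h1⟩ := H894.PQ.exists_count (G := Cfsg.Spor.HN) (p := 7) (by norm_num) (by norm_num)
    (by rw [card_HN]; norm_num) (by rw [card_HN]; norm_num)
  have h2 : B0 7 Cfsg.Spor.HN = B0 11 Cfsg.Spor.HN := hS
  rw [h2, card_eleven] at h1
  have h3 := Nat.le_of_dvd (by norm_num) he
  have h4 : ∀ e : ℕ, e ≤ 7 - 1 → 11 ≠ e + (7 - 1) / e := by decide
  exact h4 e h3 h1

/-! ### The row -/

theorem kill_mem {p q b d : ℕ} (h : ∃ χ : IrrCharacter Cfsg.Spor.HN, χ ∈ B0 p Cfsg.Spor.HN ∧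
    charDegree (χ : Cfsg.Spor.HN → ℂ) = d) (hq : q.Prime) (hb : b ≠ 0) (hd : q ^ b ∣ d)
    (hN : ¬ q ^ (b + 2) ∣ 273030912000000) : ¬ Same p q Cfsg.Spor.HN := by
  have hfin : Finite Cfsg.Spor.HN := Cfsg.Agent.H492.IMHN.finite_hn
  obtain ⟨χ, h1, h2⟩ := h
  intro hS
  have h3 : B0 p Cfsg.Spor.HN = B0 q Cfsg.Spor.HN := hS
  rw [h3] at h1
  exact not_mem_height hq hb (by rw [h2]; exact hd) (by rw [card_HN]; exact hN) h1

theorem prime_cases {p : ℕ} (hp : p.Prime) (h : p ∣ 273030912000000) :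
    p = 2 ∨ p = 3 ∨ p = 5 ∨ p = 7 ∨ p = 11 ∨ p = 19 := by
  have h1 : (273030912000000 : ℕ) = 2 ^ 14 * (3 ^ 6 * (5 ^ 6 * (7 * (11 * 19)))) := by norm_num
  rw [h1] at h
  have hc : ∀ {s : ℕ}, s.Prime → p ∣ s → p = s := fun hs h => (Nat.prime_dvd_prime_iff_eq hp hs).1 h
  rcases (Nat.Prime.dvd_mul hp).1 h with h | h
  · exact Or.inl (hc Nat.prime_two (hp.dvd_of_dvd_pow h))
  rcases (Nat.Prime.dvd_mul hp).1 h with h | h
  · exact Or.inr (Or.inl (hc Nat.prime_three (hp.dvd_of_dvd_pow h)))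
  rcases (Nat.Prime.dvd_mul hp).1 h with h | h
  · exact Or.inr (Or.inr (Or.inl (hc Nat.prime_five (hp.dvd_of_dvd_pow h))))
  rcases (Nat.Prime.dvd_mul hp).1 h with h | h
  · exact Or.inr (Or.inr (Or.inr (Or.inl (hc (by norm_num) h))))
  rcases (Nat.Prime.dvd_mul hp).1 h with h | h
  · exact Or.inr (Or.inr (Or.inr (Or.inr (Or.inl (hc (by norm_num) h)))))
  · exact Or.inr (Or.inr (Or.inr (Or.inr (Or.inr (hc (by norm_num) h)))))

theorem row : Row Cfsg.Spor.HN := by
  have hfin : Finite Cfsg.Spor.HN := Cfsg.Agent.H492.IMHN.finite_hn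
  apply Row.of_lt
  intro p q hp hq hpq hpG hqG
  rw [card_HN] at hpG hqG
  rcases prime_cases hp hpG with rfl | rfl | rfl | rfl | rfl | rfl <;>
    rcases prime_cases hq hqG with rfl | rfl | rfl | rfl | rfl | rfl <;>
    first
      | (exfalso; revert hpq; decide)
      | skip
  -- (2, q)
  · exact fun hS => not_PQ_three_two (PQ.of_same Nat.prime_two hS.symm)
  · exact kill_mem (mem_two 3) hq (b := 5) (by norm_num) (by decide +kernel) (by norm_num)
  · exact kill_mem (mem_two 2) hq (b := 1) (by norm_num) (by decide +kernel) (by norm_num)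
  · exact kill_mem (mem_two 2) hq (b := 1) (by norm_num) (by decide +kernel) (by norm_num)
  · exact kill_mem (mem_two 2) hq (b := 1) (by norm_num) (by decide +kernel) (by norm_num)
  -- (3, q)
  · exact kill_mem mem_three.2 hq (b := 5) (by norm_num) (by norm_num) (by norm_num)
  · exact kill_mem mem_three.1 hq (b := 1) (by norm_num) (by norm_num) (by norm_num)
  · exact kill_mem mem_three.1 hq (b := 1) (by norm_num) (by norm_num) (by norm_num)
  · exact kill_mem mem_three.1 hq (b := 1) (by norm_num) (by norm_num) (by norm_num)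
  -- (5, q)
  · exact kill_mem mem_five hq (b := 1) (by norm_num) (by norm_num) (by norm_num)
  · exact kill_mem mem_five hq (b := 1) (by norm_num) (by norm_num) (by norm_num)
  · exact kill_mem mem_five hq (b := 1) (by norm_num) (by norm_num) (by norm_num)
  -- (7, q)
  · exact not_same_seven_eleven
  · refine H894.PQ.kill_count hp hq (by norm_num) (by norm_num) (by rw [card_HN]; norm_num) (by rw [card_HN]; norm_num)
      (by rw [card_HN]; norm_num) (by rw [card_HN]; norm_num) ?_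
    decide +kernel
  -- (11, 19)
  · exact fun hS => kill_mem mem_nineteen hp (b := 1) (by norm_num) (by norm_num) (by norm_num) hS.symm

/-- **The row of `HN`.** -/
theorem row_hn {S : Type u} [Group S] (h : Cfsg.Spor.IsoHN S) : Row S := by
  obtain ⟨e⟩ := h
  exact H766.PQ.Row.of_equiv e.symm row

end Cfsg.Agent.H513.PQ.HNRow
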