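import Cfsg.Agent.H513.PQ.Tool
import Cfsg.Agent.H521.PBJ
import Cfsg.Agent.H417.JOneDeg

/-!
# S4612: the row of `J₁` (helper513)

Degrees `120 = 2^3 3 5`, `133 = 7 19`, `209 = 11 19`.
-/

set_option autoImplicit false

open Cfsg Subgroup

namespace Cfsg.Agent.H513.PQ.J1

open Cfsg.Agent.H317.PQ Cfsg.Agent.H709.PB Cfsg.Agent.H513.PQ Cfsg.Agent.H724.IMJOne Cfsg.Agent.H417.JOneDeg
open Cfsg.Agent.Characters.Core
open Cfsg.Agent.M23Order.Base
open Cfsg.Agent.SporRec.J1.Defs
open Cfsg.Agent.H417
open Cfsg.Agent.H413.JOneSpec (Big)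

universe u

theorem arith (c56 c76 c77 c132 c209 c120 : ℕ) (x19 : c120 = 3)
    (hsum : 175560 = 1 + (c56 * 3136 + (c76 * 5776 + (c77 * 5929 + (c120 * 14400 + (c132 * 17424 + c209 * 43681))))))
    (e7 : 1 + (c76 + (c120 + (c132 + c209))) = 7) (e11 : 1 + (c56 + (c76 + c120)) = 11)
    (e19 : 1 + (c56 + (c77 + (c120 + c132))) = 9) : False := by
  subst x19
  have b1 : c76 = 2 ∨ c76 = 3 := by clear hsum; omega
  rcases b1 with rfl | rfl
  · have a1 : c56 = 5 := by clear hsum; omega
    have a2 : c77 = 0 := by clear hsum; omega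
    have a3 : c132 = 0 := by clear hsum; omega
    have a4 : c209 = 1 := by clear hsum; omega
    rw [a1, a2, a3, a4] at hsum
    norm_num at hsum
  · have a1 : c56 = 4 := by clear hsum; omega
    have a2 : c132 = 0 := by clear hsum; omega
    have a3 : c77 = 1 := by clear hsum; omega
    have a4 : c209 = 0 := by clear hsum; omega
    rw [a1, a2, a3, a4] at hsum
    norm_num at hsum

set_option maxHeartbeats 4000000 in
/-- **degrees 120 and 133** -/
theorem degs {K : Type u} [Group K] [Finite K] [IsSimpleGroup K] (h : Local K) (hc : Nat.card K = 175560) :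
    (∃ χ : IrrCharacter K, dg χ = 120) ∧ (∃ χ : IrrCharacter K, dg χ = 133) := by
  classical
  have := finite_irr (G := K)
  let _ := Fintype.ofFinite (IrrCharacter K)
  have f7 : Fact (Nat.Prime 7) := ⟨by norm_num⟩
  have f11 : Fact (Nat.Prime 11) := ⟨by norm_num⟩
  have f19 : Fact (Nat.Prime 19) := ⟨by norm_num⟩
  obtain ⟨P, hP, ⟨D⟩⟩ := BlockCount.exists_SC (G := K) 7 (by norm_num) (by rw [hc]; norm_num)
    (by rw [hc]; norm_num) (fun y hy => by rw [card_cent h hc (by rw [hy]; unfold Big; tauto), hy]) (e := 6) (t := 1)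
    (by rw [hc]) (by norm_num)
  obtain ⟨Q, hQ, ⟨E⟩⟩ := BlockCount.exists_SC (G := K) 11 (by norm_num) (by rw [hc]; norm_num)
    (by rw [hc]; norm_num) (fun y hy => by rw [card_cent h hc (by rw [hy]; unfold Big; tauto), hy]) (e := 10) (t := 1)
    (by rw [hc]) (by norm_num)
  obtain ⟨R, hR, ⟨F⟩⟩ := BlockCount.exists_SC (G := K) 19 (by norm_num) (by rw [hc]; norm_num)
    (by rw [hc]; norm_num) (fun y hy => by rw [card_cent h hc (by rw [hy]; unfold Big; tauto), hy]) (e := 6) (t := 3)
    (by rw [hc]) (by norm_num)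
  have hperf : commutator K = ⊤ := MTwelve.SmallDegree.commutator_eq_top_of_card (by rw [hc]; norm_num)
  have hmem : ∀ χ : IrrCharacter K, dg χ ∈ ({1, 56, 76, 77, 120, 132, 133, 209} : Finset ℕ) := by
    intro χ
    have h1 := Divs.all_divs _ primes_ok (N := 175560) rfl deg_list (d := dg χ) (by rw [← hc]; exact dg_dvd χ)
    have h2 := BlockCount.mod_cases D (by norm_num) (by norm_num) (by norm_num) χ
    have h3 := BlockCount.mod_cases E (by norm_num) (by norm_num) (by norm_num) χ
    have h4 := BlockCount.mod_cases F (by norm_num) (by norm_num) (by norm_num) χ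
    have h5 := ne_210 h hc χ
    have h6 : dg χ ^ 2 ≤ 175560 := by
      have h7 := sum_dg_sq_le {χ}
      rw [Finset.sum_singleton, hc] at h7
      exact h7
    simp only [Finset.mem_insert, Finset.mem_singleton]
    simp only [Bool.or_eq_true, decide_eq_true_eq, Bool.not_eq_true', beq_iff_eq, Bool.or_eq_false_iff,
      beq_eq_false_iff_ne] at h1
    omega
  have h1 : cnt (fun χ : IrrCharacter K => dg χ) 1 = 1 := by
    rw [cnt, Finset.card_eq_one]
    refine ⟨⟨1, isIrr_one⟩, ?_⟩
    ext χ
    rw [Finset.mem_filter, Finset.mem_singleton]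
    constructor
    · rintro ⟨-, h1⟩
      exact Subtype.ext (coe_eq_one_of_dg hperf h1)
    · rintro rfl
      exact ⟨Finset.mem_univ _, dg_of_eq (by simp)⟩
  have hsum := sum_eq (fun χ : IrrCharacter K => dg χ) _ hmem (fun d => d ^ 2)
  rw [sum_dg_sq, hc] at hsum
  have e7 := BlockCount.card_ne_zero D (by norm_num) (by norm_num) (by norm_num)
  have e11 := BlockCount.card_ne_zero E (by norm_num) (by norm_num) (by norm_num)
  have e19 := BlockCount.card_ne_zero F (by norm_num) (by norm_num) (by norm_num)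
  have x19 := BlockCount.card_exc F (by norm_num) (by norm_num) (by norm_num)
  rw [card_filter_eq (fun χ : IrrCharacter K => dg χ) _ hmem (fun d => d % 7 ≠ 0)] at e7
  rw [card_filter_eq (fun χ : IrrCharacter K => dg χ) _ hmem (fun d => d % 11 ≠ 0)] at e11
  rw [card_filter_eq (fun χ : IrrCharacter K => dg χ) _ hmem (fun d => d % 19 ≠ 0)] at e19
  rw [card_filter_eq (fun χ : IrrCharacter K => dg χ) _ hmem (fun d => d % 19 = 6 ∨ d % 19 = 19 - 6)] at x19
  rw [show (({1, 56, 76, 77, 120, 132, 133, 209} : Finset ℕ).filter fun d => d % 7 ≠ 0) =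
    {1, 76, 120, 132, 209} by decide +kernel] at e7
  rw [show (({1, 56, 76, 77, 120, 132, 133, 209} : Finset ℕ).filter fun d => d % 11 ≠ 0) =
    {1, 56, 76, 120, 133} by decide +kernel] at e11
  rw [show (({1, 56, 76, 77, 120, 132, 133, 209} : Finset ℕ).filter fun d => d % 19 ≠ 0) =
    {1, 56, 77, 120, 132} by decide +kernel] at e19
  rw [show (({1, 56, 76, 77, 120, 132, 133, 209} : Finset ℕ).filter fun d => d % 19 = 6 ∨ d % 19 = 19 - 6) =
    {120} by decide +kernel] at x19
  repeat rw [Finset.sum_insert (by decide)] at hsum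
  repeat rw [Finset.sum_insert (by decide)] at e7
  repeat rw [Finset.sum_insert (by decide)] at e11
  repeat rw [Finset.sum_insert (by decide)] at e19
  rw [Finset.sum_singleton] at hsum e7 e11 e19 x19
  rw [h1] at hsum e7 e11 e19
  have hex : ∀ d, cnt (fun χ : IrrCharacter K => dg χ) d ≠ 0 → ∃ χ : IrrCharacter K, dg χ = d := by
    intro d hd
    by_contra hno
    apply hd
    rw [cnt, Finset.card_eq_zero, Finset.filter_eq_empty_iff]
    intro χ _ h2
    exact hno ⟨χ, h2⟩
  generalize cnt (fun χ : IrrCharacter K => dg χ) 56 = c56 at *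
  generalize cnt (fun χ : IrrCharacter K => dg χ) 76 = c76 at *
  generalize cnt (fun χ : IrrCharacter K => dg χ) 77 = c77 at *
  generalize cnt (fun χ : IrrCharacter K => dg χ) 132 = c132 at *
  generalize cnt (fun χ : IrrCharacter K => dg χ) 209 = c209 at *
  have k120 : cnt (fun χ : IrrCharacter K => dg χ) 120 ≠ 0 := by rw [x19]; decide
  have k133 : cnt (fun χ : IrrCharacter K => dg χ) 133 ≠ 0 := by
    generalize cnt (fun χ : IrrCharacter K => dg χ) 120 = c120 at *
    generalize cnt (fun χ : IrrCharacter K => dg χ) 133 = c133 at *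
    clear hex hmem h1
    intro h133
    subst h133
    norm_num at hsum e7 e11 e19 x19
    exact arith c56 c76 c77 c132 c209 c120 x19 hsum e7 e11 e19
  exact ⟨hex 120 k120, hex 133 k133⟩

theorem simple : IsSimpleGroup Spor.J1 := SporadicB.J1.Main.isJ1.1

theorem nb {q : ℕ} (hq' : q = 7 ∨ q = 11 ∨ q = 19) : NB q 1 Spor.J1 := by
  have : Fact q.Prime := ⟨by rcases hq' with rfl | rfl | rfl <;> norm_num⟩
  exact H521.PBJ.nb_self hq'

theorem row : Row Spor.J1 := by
  have := simple
  obtain ⟨d120, d133⟩ := degs H413.JOneLocal.isLocal card_j1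
  obtain ⟨d209, -⟩ := max_degree H413.JOneLocal.isLocal card_j1
  obtain ⟨x3, h3⟩ := exists_ord (n := 3) (by decide)
  obtain ⟨x5, h5⟩ := exists_ord (n := 5) (by decide)
  apply Row.of_lt
  intro p q hp hq hpq hpG hqG
  rw [card_j1] at hpG hqG
  rcases prime_cases hp hpG with rfl | rfl | rfl | rfl | rfl | rfl <;>
    rcases prime_cases hq hqG with rfl | rfl | rfl | rfl | rfl | rfl <;>
    first
      | (exfalso; revert hpq; decide)
      | skip
  · exact fun h => adj hq hp (by norm_num) h3 (by rw [card_j1]; norm_num) (by rw [card_cent_three h3]; norm_num) h.symm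
  · exact fun h => adj hq hp (by norm_num) h5 (by rw [card_j1]; norm_num) (by rw [card_cent_five h5]; norm_num) h.symm
  · exact fun h => kl card_j1 (b := 3) d120 hq hp (nb (by norm_num)) (by decide +kernel) h.symm
  · exact fun h => kl card_j1 (b := 3) d120 hq hp (nb (by norm_num)) (by decide +kernel) h.symm
  · exact fun h => kl card_j1 (b := 3) d120 hq hp (nb (by norm_num)) (by decide +kernel) h.symm
  · exact adj hp hq (by norm_num) h3 (by rw [card_j1]; norm_num) (by rw [card_cent_three h3]; norm_num)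
  · exact fun h => kl card_j1 (b := 1) d120 hq hp (nb (by norm_num)) (by decide +kernel) h.symm
  · exact fun h => kl card_j1 (b := 1) d120 hq hp (nb (by norm_num)) (by decide +kernel) h.symm
  · exact fun h => kl card_j1 (b := 1) d120 hq hp (nb (by norm_num)) (by decide +kernel) h.symm
  · exact fun h => kl card_j1 (b := 1) d120 hq hp (nb (by norm_num)) (by decide +kernel) h.symm
  · exact fun h => kl card_j1 (b := 1) d120 hq hp (nb (by norm_num)) (by decide +kernel) h.symm
  · exact fun h => kl card_j1 (b := 1) d120 hq hp (nb (by norm_num)) (by decide +kernel) h.symm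
  · exact kl card_j1 (b := 1) d209 hp hq (nb (by norm_num)) (by decide +kernel)
  · exact kl card_j1 (b := 1) d209 hp hq (nb (by norm_num)) (by decide +kernel)
  · exact kl card_j1 (b := 1) d133 hp hq (nb (by norm_num)) (by decide +kernel)

/-- **The row of `J₁`.** -/
theorem row_j1 {S : Type u} [Group S] (h : Cfsg.Spor.IsoJ1 S) : Row S := by
  obtain ⟨e⟩ := h
  exact H766.PQ.Row.of_equiv e.symm row

end Cfsg.Agent.H513.PQ.J1
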