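import Cfsg.Agent.H513.PQ.Tool
import Cfsg.Agent.H332.EB.McL
import Cfsg.Agent.H846.PB.McL
import Cfsg.Agent.H846.PB.McLDeg
import Cfsg.Agent.H904.McLCent
import Cfsg.Agent.H174.Two.McL
import Cfsg.Agent.H593.IMSporTwo
import Cfsg.Agent.H642.PQ.Sieve

/-!
# S4612: the row of `McL` (helper513)

Degrees `22`, `252 = 2^2 3^2 7`, `1750 = 2 5^3 7`, `4500 = 2^2 3^2 5^3`, `5103 = 3^6 7`; the 275 points for `(5, 7)`.
-/

set_option autoImplicit false
set_option linter.style.haveILetI false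

open Cfsg Subgroup

namespace Cfsg.Agent.H513.PQ.McL

open Cfsg.Agent.H317.PQ Cfsg.Agent.H709.PB Cfsg.Agent.H513.PQ Cfsg.Agent.H766.PQ
open Cfsg.Agent.Blocks.Basic Cfsg.Agent.Blocks.Local
open Cfsg.Agent.H332.EB.McLAut (K0 X0)
open Cfsg.Agent.SporadicRecognition.RankThreeOf (act)
open Cfsg.Agent.H705.Imc.McL (xs_inv xs_facts)

universe u

theorem card_m {S : Type u} [Group S] (h : Spor.IsoMcL S) : Nat.card S = 898128000 := NotCT.Orders.mcl h

theorem prime_cases {p : ℕ} (hp : p.Prime) (h : p ∣ 898128000) : p = 2 ∨ p = 3 ∨ p = 5 ∨ p = 7 ∨ p = 11 := by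
  have h1 : (898128000 : ℕ) = 2 ^ 7 * (3 ^ 6 * (5 ^ 3 * (7 * 11))) := by norm_num
  rw [h1] at h
  rcases (Nat.Prime.dvd_mul hp).1 h with h | h
  · exact Or.inl ((Nat.prime_dvd_prime_iff_eq hp Nat.prime_two).1 (hp.dvd_of_dvd_pow h))
  rcases (Nat.Prime.dvd_mul hp).1 h with h | h
  · exact Or.inr (Or.inl ((Nat.prime_dvd_prime_iff_eq hp Nat.prime_three).1 (hp.dvd_of_dvd_pow h)))
  rcases (Nat.Prime.dvd_mul hp).1 h with h | h
  · exact Or.inr (Or.inr (Or.inl ((Nat.prime_dvd_prime_iff_eq hp (by norm_num)).1 (hp.dvd_of_dvd_pow h))))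
  rcases (Nat.Prime.dvd_mul hp).1 h with h | h
  · exact Or.inr (Or.inr (Or.inr (Or.inl ((Nat.prime_dvd_prime_iff_eq hp (by norm_num)).1 h))))
  · exact Or.inr (Or.inr (Or.inr (Or.inr ((Nat.prime_dvd_prime_iff_eq hp (by norm_num)).1 h))))

theorem finite_m {S : Type u} [Group S] (h : Spor.IsoMcL S) : Finite S :=
  Nat.finite_of_card_ne_zero (by rw [card_m h]; norm_num)

theorem nb_two : NB 2 3 ↥Spor.McL := by
  have : Fact (Nat.Prime 2) := ⟨Nat.prime_two⟩
  have : Finite ↥Spor.McL := finite_m ⟨MulEquiv.refl _⟩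
  obtain ⟨hcl, t, ht, hC⟩ := Cfsg.Agent.S2132.result
  refine NB.of_orders (a := 7) (by rw [card_m ⟨MulEquiv.refl _⟩]; norm_num) ?_
  intro y hy hy2
  refine Cfsg.Agent.H332.EB.Low.not_dvd hcl ht hC y (hy.odd_of_ne_two hy2) ?_
  rintro rfl
  rw [orderOf_one] at hy
  exact Nat.not_prime_one hy

theorem nb_three {S : Type u} [Group S] (h : Spor.IsoMcL S) : NB 3 1 S := by
  have : Fact (Nat.Prime 3) := ⟨Nat.prime_three⟩
  have : Finite S := finite_m h
  obtain ⟨y, hy, hC⟩ := Cfsg.Agent.H846.PB.exists_nine h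
  exact NB.of_self hC ⟨2, hy⟩

theorem nb_eleven {S : Type u} [Group S] (h : Spor.IsoMcL S) : NB 11 1 S := by
  have : Fact (Nat.Prime 11) := ⟨by norm_num⟩
  have : Finite S := finite_m h
  obtain ⟨x, hx⟩ := exists_prime_orderOf_dvd_card' (G := S) 11 (by rw [card_m h]; norm_num)
  have h4 := (Cfsg.Agent.H904.McLCent.eleven h (zpowers x) (by rw [Nat.card_zpowers, hx])).1
  rw [H904.SylOne.centralizer_zpowers_eq] at h4
  exact NB.of_self (IsPGroup.of_card (n := 1) (by rw [h4, pow_one])) ⟨1, by rw [hx, pow_one]⟩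

theorem exists_1750 {S : Type u} [Group S] (h : Spor.IsoMcL S) :
    ∃ χ : IrrCharacter S, charDegree (χ : S → ℂ) = 1750 := by
  obtain ⟨e⟩ := h
  exact H593.IMSpor.exists_degree_of_equiv ((e.trans Cfsg.Agent.H713.Spor.McL.mclEquiv).trans
    (MulEquiv.subgroupCongr Cfsg.Agent.H846.PB.McL.hKe)) Cfsg.Agent.H846.PB.McL.exists_1750

/-- the pair `(5, 7)`: the 275 points -/
theorem five_seven_model : ¬ Same 5 7 ↥K0 := by
  classical
  obtain ⟨hs, hc⟩ := Cfsg.Agent.H713.Spor.McL.facts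
  have hfin : Finite ↥K0 := Nat.finite_of_card_ne_zero (by rw [hc]; norm_num)
  let actX := act K0 X0 (xs_inv _ _)
  obtain ⟨hcX, htr, -⟩ := xs_facts
  have hfX : Finite ↥X0 := Nat.finite_of_card_ne_zero (by rw [hcX]; norm_num)
  obtain ⟨φ, ψ, hφ, hψ, hfix⟩ := Cfsg.Agent.H332.EB.McL.chars
  let one : IrrCharacter ↥K0 := ⟨1, Cfsg.Agent.Characters.Core.isIrr_one⟩
  have h1 : charDegree (one : ↥K0 → ℂ) = 1 := charDegree_of_eq (by simp [one])
  let χ : Fin 3 → IrrCharacter ↥K0 := ![one, φ, ψ]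
  have hd : ∀ i, charDegree (χ i : ↥K0 → ℂ) = ![1, 22, 252] i := by
    intro i
    fin_cases i
    · exact h1
    · exact hφ
    · exact hψ
  have hX : H329.PQ.MF ↥K0 ↥X0 χ := by
    refine ⟨?_, ?_⟩
    · intro i j hij
      have h2 : (![1, 22, 252] : Fin 3 → ℕ) i = ![1, 22, 252] j := by rw [← hd, ← hd, hij]
      clear hij
      revert i j
      decide
    · intro g
      rw [hfix g, Fin.sum_univ_three]
      rfl
  have hout : ψ ∉ B0 7 ↥K0 := by
    intro hm
    have h2 := not_defect_zero (p := 7) (by norm_num) (by rw [hc]; norm_num) hm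
    rw [hψ, hc] at h2
    rw [show (252 : ℕ) = 7 * 36 by norm_num, show (898128000 : ℕ) = 7 * 128304000 by norm_num,
      Nat.factorization_mul (by norm_num) (by norm_num), Nat.factorization_mul (by norm_num) (by norm_num),
      Finsupp.add_apply, Finsupp.add_apply, Nat.factorization_eq_zero_of_not_dvd (n := 128304000) (by norm_num)] at h2
    omega
  refine H642.PQ.not_same_sieve (p := 5) (q := 7) (by norm_num) (by norm_num) hX hd (n := 275) hcX (a := 2) (b := 0)
    (by norm_num) (by norm_num) {0} {2} ?_ ?_ (by decide +kernel)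
  · intro i hi
    rw [Finset.mem_singleton] at hi
    subst hi
    left
    show one ∈ B0 5 ↥K0
    intro M hM
    have hMp : M.IsPrime := isPrime_of_isPModular hM
    exact Cfsg.Agent.Blocks.Basic.mem_blockOf_self one
  · intro i hi
    rw [Finset.mem_singleton] at hi
    subst hi
    right
    exact hout

theorem row : Row ↥Spor.McL := by
  have hI : Spor.IsoMcL ↥Spor.McL := ⟨MulEquiv.refl _⟩
  have hfin : Finite ↥Spor.McL := finite_m hI
  have hc : Nat.card ↥Spor.McL = 898128000 := card_m hI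
  have d22 := Cfsg.Agent.H174.Two.McL.mcl_22 hI
  have d252 := Cfsg.Agent.H593.IMSpor.mcl_252 hI
  have d1750 := exists_1750 hI
  obtain ⟨-, d4500, d5103⟩ := Cfsg.Agent.H174.Two.McL.mcl_deg hI
  apply Row.of_lt
  intro p q hp hq hpq hpG hqG
  rw [hc] at hpG hqG
  rcases prime_cases hp hpG with rfl | rfl | rfl | rfl | rfl <;>
    rcases prime_cases hq hqG with rfl | rfl | rfl | rfl | rfl <;>
    first
      | (exfalso; revert hpq; decide)
      | skip
  · exact kl hc (b := 6) d5103 hp hq nb_two (by decide +kernel)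
  · exact kl hc (b := 3) d4500 hp hq nb_two (by decide +kernel)
  · exact kl hc (b := 1) d252 hp hq nb_two (by decide +kernel)
  · exact kl hc (b := 1) d22 hp hq nb_two (by decide +kernel)
  · exact kl hc (b := 3) d1750 hp hq (nb_three hI) (by decide +kernel)
  · exact kl hc (b := 1) d1750 hp hq (nb_three hI) (by decide +kernel)
  · exact kl hc (b := 1) d22 hp hq (nb_three hI) (by decide +kernel)
  · intro hS
    obtain ⟨e⟩ : Nonempty (↥Spor.McL ≃* ↥K0) := ⟨Cfsg.Agent.H713.Spor.McL.mclEquiv⟩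
    exact five_seven_model (Same.of_equiv e hS)
  · exact fun hS => kl hc (b := 3) d4500 hq hp (nb_eleven hI) (by decide +kernel) hS.symm
  · exact fun hS => kl hc (b := 1) d252 hq hp (nb_eleven hI) (by decide +kernel) hS.symm

/-- **The row of `McL`.** -/
theorem row_mcl {S : Type u} [Group S] (h : Cfsg.Spor.IsoMcL S) : Row S := by
  obtain ⟨e⟩ := h
  exact Row.of_equiv e.symm row

end Cfsg.Agent.H513.PQ.McL
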